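import Groth.Agent.H17.Reduced
import Groth.Agent.H12AlgSp.Basic
import Groth.Agent.H12AlgSp.Points
import Groth.Agent.H12AlgSp.PointsTop
import Groth.Agent.H13AlgSp.ProdConn
import Mathlib.AlgebraicGeometry.Morphisms.Immersion
import Mathlib.AlgebraicGeometry.Morphisms.Proper
import Mathlib.AlgebraicGeometry.ZariskisMainTheorem

/-!
When the graph of a map from a scheme to a space is an immersion.
-/

set_option autoImplicit false
set_option backward.isDefEq.respectTransparency false
set_option linter.style.haveILetI false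

universe u

open CategoryTheory CategoryTheory.Limits AlgebraicGeometry Opposite Topology
open AlgSp Groth.Agent.H13AlgSp

namespace Groth.Agent.H12AlgSp.AffImm

variable {S : Scheme.{u}}

/-- A monomorphism of finite type which is an immersion on a surjective cover is an immersion. -/
theorem isImmersion_of_mono_of_surjective {E' E Q : Scheme.{u}} (i : E' ⟶ E) (j : E ⟶ Q) [Surjective i] [Mono j]
    [LocallyOfFiniteType j] [IsImmersion (i ≫ j)] : IsImmersion j := by
  have hr : Set.range j = Set.range (i ≫ j) := by
    rw [Scheme.Hom.comp_base, TopCat.coe_comp, Set.range_comp, i.surjective.range_eq, Set.image_univ]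
  have hlc : IsLocallyClosed (Set.range j) := hr ▸ (i ≫ j).isLocallyClosed_range
  let O : Q.Opens := ⟨coborder (Set.range j), isLocallyClosed_iff_isOpen_coborder.1 hlc⟩
  have hsub : Set.range j ⊆ Set.range O.ι := by
    rw [Scheme.Opens.range_ι]; exact subset_coborder
  let j₀ := IsOpenImmersion.lift O.ι j hsub
  have hj₀ : j₀ ≫ O.ι = j := IsOpenImmersion.lift_fac _ _ _
  haveI : Mono (j₀ ≫ O.ι) := hj₀.symm ▸ ‹Mono j›
  haveI : Mono j₀ := mono_of_mono j₀ O.ι
  haveI : LocallyOfFiniteType (j₀ ≫ O.ι) := hj₀.symm ▸ ‹LocallyOfFiniteType j›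
  haveI : LocallyOfFiniteType j₀ := locallyOfFiniteType_of_comp j₀ O.ι
  haveI : IsPreimmersion ((i ≫ j₀) ≫ O.ι) := by rw [Category.assoc, hj₀]; infer_instance
  haveI : IsPreimmersion (i ≫ j₀) := .of_comp _ O.ι
  haveI : IsClosedImmersion (i ≫ j₀) := by
    refine .of_isPreimmersion _ ?_
    have e : Set.range (i ≫ j₀) = Subtype.val ⁻¹' closure (Set.range j) := by
      ext z
      constructor
      · rintro ⟨w, rfl⟩
        exact subset_closure ⟨i w, by
          simp only [← hj₀, Scheme.Hom.comp_apply]
          rfl⟩
      · intro hz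
        obtain ⟨w, hw⟩ : z.1 ∈ Set.range j := by
          rw [← closure_inter_coborder (s := Set.range j)]
          exact ⟨hz, z.2⟩
        obtain ⟨w', rfl⟩ := i.surjective w
        refine ⟨w', O.ι.isEmbedding.injective ?_⟩
        rw [← Scheme.Hom.comp_apply, Category.assoc, hj₀, Scheme.Hom.comp_apply, hw]
        rfl
    rw [e]
    exact isClosed_closure.preimage continuous_subtype_val
  haveI : UniversallyClosed j₀ := UniversallyClosed.of_comp_surjective i j₀
  haveI : IsClosedImmersion j₀ := (IsClosedImmersion.iff_isProper_and_mono j₀).2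
    ⟨{ toUniversallyClosed := inferInstance }, inferInstance⟩
  rw [← hj₀]
  infer_instance

/-- The immersion condition for the graph of `f`: products with etale affine charts. -/
def GraphImm {X : Sp S} {U : Over S} (f : (yon S).obj U ⟶ X) : Prop :=
  ∀ (W E : Over S) (a : (yon S).obj W ⟶ X) (eU : E ⟶ U) (eW : E ⟶ W), RepWith @Etale a →
    IsPullback ((yon S).map eU) ((yon S).map eW) f a → LocallyOfFiniteType eW.left →
      IsImmersion (prod.lift eU eW).left

theorem mono_prodLift {X : Sp S} {U W E : Over S} {f : (yon S).obj U ⟶ X} {a : (yon S).obj W ⟶ X}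
    {eU : E ⟶ U} {eW : E ⟶ W} (sq : IsPullback ((yon S).map eU) ((yon S).map eW) f a) :
    Mono (prod.lift eU eW).left := by
  haveI : Mono (prod.lift eU eW) := ⟨fun x y h => by
    apply (yon S).map_injective
    refine sq.hom_ext ?_ ?_
    · rw [← Functor.map_comp, ← Functor.map_comp]
      congr 1
      simpa using h =≫ prod.fst
    · rw [← Functor.map_comp, ← Functor.map_comp]
      congr 1
      simpa using h =≫ prod.snd⟩
  exact (Over.forget S).map_mono _

/-- The graph is an immersion if all points map into an immersed scheme. -/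
theorem graphImm_of_factor {X : Sp S} (hX : IsAlgSpace X) {U Z : Over S} (f : (yon S).obj U ⟶ X)
    {g : (yon S).obj Z ⟶ X} (hg : RepWith @IsImmersion g)
    (h : ∀ t, Points.ofPt f t ∈ Set.range (Points.map g)) : GraphImm f := by
  intro W E a eU eW ha sq hlft
  let I := Scheme.IdealSheafData.vanishingIdeal (⊤ : TopologicalSpace.Closeds U.left)
  let Ur : Over S := Over.mk (I.subschemeι ≫ U.hom)
  let r : Ur ⟶ U := Over.homMk I.subschemeι rfl
  haveI : IsClosedImmersion r.left := inferInstanceAs (IsClosedImmersion I.subschemeι)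
  haveI : IsReduced Ur.left := H17.isReduced_vanishingIdeal_subscheme _
  haveI : Surjective r.left := ⟨fun x => by
    have hx : x ∈ Set.range I.subschemeι := by
      rw [show Set.range I.subschemeι = _ from H17.range_vanishingIdeal_subschemeι ⊤]
      trivial
    exact hx⟩
  obtain ⟨P, w, k', sqP⟩ := hg.rep ((yon S).map r ≫ f)
  obtain ⟨k, rfl⟩ := (yon S).map_surjective k'
  haveI : IsImmersion w.left := hg.property _ _ _ sqP
  haveI : Surjective w.left := ⟨fun t => (preimage_ofPt_range sqP).le (by
    rw [Set.mem_preimage, ofPt_map]; exact h _)⟩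
  haveI : IsClosedImmersion w.left := .of_isPreimmersion _ (by rw [w.left.surjective.range_eq]; exact isClosed_univ)
  haveI : IsIso w.left := isIso_of_isClosedImmersion_of_surjective w.left
  haveI : IsIso w := by
    have : IsIso ((Over.forget S).map w) := ‹IsIso w.left›
    exact isIso_of_reflects_iso w (Over.forget S)
  let l : Ur ⟶ Z := inv w ≫ k
  have hl : (yon S).map l ≫ g = (yon S).map r ≫ f := by
    rw [Functor.map_comp, Category.assoc, sqP.w, ← Category.assoc, ← Functor.map_comp, IsIso.inv_hom_id,
      CategoryTheory.Functor.map_id, Category.id_comp]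
  obtain ⟨G, m, n', sqG⟩ := hg.rep a
  obtain ⟨n, rfl⟩ := (yon S).map_surjective n'
  haveI : IsImmersion m.left := hg.property _ _ _ sqG
  have sqE' := ((IsPullback.of_hasPullback r eU).map (yon S)).paste_vert sq
  obtain ⟨lG', hl₁, hl₂⟩ := sqG.exists_lift ((yon S).map (pullback.fst r eU) ≫ (yon S).map l)
    ((yon S).map (pullback.snd r eU) ≫ (yon S).map eW) (by rw [Category.assoc, hl, sqE'.w])
  obtain ⟨lG, rfl⟩ := (yon S).map_surjective lG'
  have sqT : IsPullback (pullback.fst r eU) lG l n := by
    refine IsPullback.of_map (yon S) ?_ ?_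
    · apply (yon S).map_injective
      rw [Functor.map_comp (yon S) lG n, hl₁, ← Functor.map_comp]
    · refine IsPullback.of_bot (v₂₁ := (yon S).map m) (v₂₂ := g) (h₃₁ := a) ?_ hl₁.symm sqG
      rw [hl, hl₂]
      exact sqE'
  have hG : IsImmersion (prod.lift (pullback.fst r eU) lG).left := by
    have sqL : IsPullback (pullback.fst r eU).left lG.left l.left n.left := sqT.map (Over.forget S)
    have e : (prod.lift (pullback.fst r eU) lG).left ≫ (Over.prodLeftIsoPullback Ur G).hom =
        sqL.isoPullback.hom ≫ pullback.mapDesc l.left n.left Z.hom ≫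
          (pullback.congrHom (f₁ := l.left ≫ Z.hom) (f₂ := Ur.hom) (g₁ := n.left ≫ Z.hom) (g₂ := G.hom)
            (Over.w l) (Over.w n)).hom := by
      apply pullback.hom_ext <;>
        simp only [pullback.lift_fst, pullback.lift_snd, Category.assoc, pullback.congrHom_hom, pullback.lift_fst_assoc,
          pullback.lift_snd_assoc, Category.comp_id, Category.id_comp, Over.prodLeftIsoPullback_hom_fst,
          Over.prodLeftIsoPullback_hom_snd, ← Over.comp_left, prod.lift_fst, prod.lift_snd,
          IsPullback.isoPullback_hom_fst, IsPullback.isoPullback_hom_snd]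
    rw [← MorphismProperty.cancel_right_of_respectsIso @IsImmersion _ (Over.prodLeftIsoPullback Ur G).hom, e]
    infer_instance
  have hmap : IsImmersion (prod.map r m).left := by
    have e : (prod.map r m).left ≫ (Over.prodLeftIsoPullback U W).hom =
        (Over.prodLeftIsoPullback Ur G).hom ≫ pullback.map Ur.hom G.hom U.hom W.hom r.left m.left (𝟙 S)
          (by rw [Category.comp_id]; exact (Over.w r).symm) (by rw [Category.comp_id]; exact (Over.w m).symm) := by
      apply pullback.hom_ext <;>
        simp only [pullback.lift_fst, pullback.lift_snd, Category.assoc, Over.prodLeftIsoPullback_hom_fst,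
          Over.prodLeftIsoPullback_hom_snd, Over.prodLeftIsoPullback_hom_fst_assoc,
          Over.prodLeftIsoPullback_hom_snd_assoc, ← Over.comp_left, prod.map_fst, prod.map_snd]
    rw [← MorphismProperty.cancel_right_of_respectsIso @IsImmersion _ (Over.prodLeftIsoPullback U W).hom, e,
      MorphismProperty.cancel_left_of_respectsIso @IsImmersion]
    exact MorphismProperty.pullbackMap (P := @IsImmersion) inferInstance inferInstance (Over.w r).symm (Over.w m).symm
  have e : pullback.snd r eU ≫ prod.lift eU eW = prod.lift (pullback.fst r eU) lG ≫ prod.map r m := by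
    apply Limits.prod.hom_ext
    · simp [pullback.condition]
    · simp only [Category.assoc, prod.lift_snd, prod.map_snd, prod.lift_snd_assoc]
      apply (yon S).map_injective
      rw [Functor.map_comp, Functor.map_comp, hl₂]
  haveI : IsImmersion ((pullback.snd r eU).left ≫ (prod.lift eU eW).left) := by
    rw [← Over.comp_left, e, Over.comp_left]
    infer_instance
  haveI : Surjective (pullback.snd r eU).left :=
    MorphismProperty.of_isPullback (P := @Surjective) ((IsPullback.of_hasPullback r eU).map (Over.forget S)) ‹Surjective r.left›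
  haveI := mono_prodLift sq
  haveI : LocallyOfFiniteType ((prod.lift eU eW).left ≫ (prod.snd : U ⨯ W ⟶ W).left) := by
    rw [← Over.comp_left, prod.lift_snd]; exact hlft
  haveI : LocallyOfFiniteType (prod.lift eU eW).left := locallyOfFiniteType_of_comp _ (prod.snd : U ⨯ W ⟶ W).left
  exact isImmersion_of_mono_of_surjective (pullback.snd r eU).left _

/-- The immersion condition is local on the source of `f`. -/
theorem graphImm_of_openCover {X : Sp S} {U : Over S} (f : (yon S).obj U ⟶ X) {ι : Type u} (V : ι → Over S)
    (v : ∀ i, V i ⟶ U) (hv : ∀ i, IsOpenImmersion (v i).left) (hcov : ∀ t, ∃ i, t ∈ Set.range (v i).left)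
    (h : ∀ i, GraphImm ((yon S).map (v i) ≫ f)) : GraphImm f := by
  intro W E a eU eW ha sq hlft
  let vW : ∀ i, V i ⨯ W ⟶ U ⨯ W := fun i => prod.map (v i) (𝟙 W)
  have sqW : ∀ i, IsPullback prod.fst (vW i) (v i) (prod.fst : U ⨯ W ⟶ U) := fun i => (isPullback_prod_map_fst' (v i)).flip
  haveI : ∀ i, IsOpenImmersion (vW i).left := fun i =>
    MorphismProperty.of_isPullback (P := @IsOpenImmersion) ((sqW i).map (Over.forget S)) (hv i)
  have hcW : ⨆ i, (vW i).left.opensRange = ⊤ := top_le_iff.1 fun q _ => TopologicalSpace.Opens.mem_iSup.2 (by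
    obtain ⟨i, t, ht⟩ := hcov ((prod.fst : U ⨯ W ⟶ U).left q)
    obtain ⟨z, -, hz⟩ := Scheme.exists_preimage_of_isPullback ((sqW i).map (Over.forget S)) t q ht
    exact ⟨i, z, hz⟩)
  rw [IsZariskiLocalAtTarget.iff_of_iSup_eq_top (P := @IsImmersion) _ hcW]
  intro i
  rw [MorphismProperty.arrow_mk_iso_iff (P := @IsImmersion) (morphismRestrictOpensRange _ _)]
  let d₁ := pullback.fst (prod.lift eU eW) (vW i)
  let d₂ := pullback.snd (prod.lift eU eW) (vW i)
  have sqd : IsPullback d₂ d₁ (vW i) (prod.lift eU eW) := (IsPullback.of_hasPullback _ _).flip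
  have sq₁ : IsPullback (d₂ ≫ prod.fst) d₁ (v i) eU := by
    have := sqd.paste_horiz (sqW i)
    rwa [prod.lift_fst] at this
  have sq₂ : IsPullback ((yon S).map (d₂ ≫ prod.fst)) ((yon S).map (d₁ ≫ eW)) ((yon S).map (v i) ≫ f) a := by
    rw [Functor.map_comp (yon S) d₁]
    exact (sq₁.map (yon S)).paste_vert sq
  haveI : IsOpenImmersion d₁.left := MorphismProperty.of_isPullback (P := @IsOpenImmersion)
    (sqd.map (Over.forget S)) (show IsOpenImmersion (vW i).left from inferInstance)
  haveI := hlft
  have key := h i W _ a (d₂ ≫ prod.fst) (d₁ ≫ eW) ha sq₂ (by rw [Over.comp_left]; infer_instance)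
  have e : prod.lift (d₂ ≫ prod.fst) (d₁ ≫ eW) = d₂ := by
    apply Limits.prod.hom_ext
    · simp
    · rw [prod.lift_snd]
      have := congrArg (· ≫ prod.snd) sqd.w
      simpa [vW] using this.symm
  rw [e] at key
  have sqL := sqd.map (Over.forget S)
  rw [show pullback.snd (prod.lift eU eW).left (vW i).left = sqL.flip.isoPullback.inv ≫ d₂.left from
    (sqL.flip.isoPullback_inv_snd).symm, MorphismProperty.cancel_left_of_respectsIso @IsImmersion]
  exact key

end Groth.Agent.H12AlgSp.AffImm
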