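import Groth.Agent.H12AlgSp.AffImm.Main
import Groth.Agent.H12AlgSp.FinPres
import Groth.Agent.H12AlgSp.QSPullback
import Groth.Agent.H13AlgSp.DecentDense
import Groth.Agent.H13AlgSp.RedInduced
import Groth.Agent.H13AlgSp.Sober
import Groth.Agent.H12AlgSp.LimitQuotient

/-!
A morphism of finite presentation to a Noetherian space is quasi-projective on a dense open.
-/

set_option autoImplicit false
set_option backward.isDefEq.respectTransparency false
set_option linter.style.haveILetI false

universe u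

open CategoryTheory CategoryTheory.Limits AlgebraicGeometry Opposite Topology TopologicalSpace
open AlgSp Groth.Agent.H13AlgSp

namespace Groth.Agent.H12AlgSp.AffImm

variable {S : Scheme.{u}}

/-- Every point of a quasi-separated space lies on an immersed scheme. -/
theorem exists_immersed_scheme {X : Sp S} (hX : IsAlgSpace X) (hqs : IsQuasiSeparatedSp X) (x : Points X) :
    ∃ (Z : Over S) (g : (yon S).obj Z ⟶ X), RepWith @IsImmersion g ∧ x ∈ Set.range (Points.map g) := by
  obtain ⟨Zr, i, hZr, hi, hir, -⟩ := exists_isRedInduced hX (isClosed_closure (s := {x}))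
  haveI : Mono i := mono_of_repWith (fun _ _ k (_ : IsClosedImmersion k) => (inferInstance : Mono k)) hi
  have hqsm : IsQuasiSeparatedMor i := repWith_of_isIso _
  have hdec : IsDecent Zr := isDecent_of_isQuasiSeparatedSp hZr (isQuasiSeparatedSp_of_mor hqsm hqs)
  obtain ⟨W, j, hj, hW, hdense⟩ := exists_dense_open_subscheme (⟨Zr, hZr⟩ : Space S) hdec
  obtain ⟨Z, ⟨e⟩⟩ := isRepresentable_iff_exists_iso.1 hW
  obtain ⟨z, hz⟩ := hir.ge (subset_closure (Set.mem_singleton x))
  have hii : RepWith @IsImmersion i :=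
    repWith_le (fun _ _ k (_ : IsClosedImmersion k) => inferInstanceAs (IsImmersion k)) hi
  have hzgen : ∀ z', z ⤳ z' := fun z' => (isEmbedding_of_immersion hX i hii).1.toIsInducing.specializes_iff.1 (by
    rw [hz, specializes_iff_mem_closure]
    exact hir.le ⟨z', rfl⟩)
  have hzj : z ∈ Set.range (Points.map j.hom) := by
    have ho : IsOpen (Set.range (Points.map j.hom)) :=
      (isOpenMap_map_of_repWith (fun _ _ k (_ : IsOpenImmersion k) => inferInstance) hj).isOpen_range
    obtain ⟨z', hz'⟩ := hdense.exists_mem_open isOpen_univ ⟨z, trivial⟩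
    exact (hzgen z').mem_open ho hz'.1
  obtain ⟨w, hw⟩ := hzj
  refine ⟨Z, e.hom ≫ j.hom ≫ i, repWith_comp (repWith_of_isIso _) (repWith_comp
    (repWith_le (fun _ _ k (_ : IsOpenImmersion k) => inferInstanceAs (IsImmersion k)) hj) hii),
    Points.map e.inv w, ?_⟩
  rw [← Points.map_comp, Iso.inv_hom_id_assoc, Points.map_comp, hw, hz]

theorem noetherianSpace_points {Y : Sp S} (hc : IsQuasiCompactSp Y) (hn : IsLocNoethSp Y) :
    NoetherianSpace (Points Y) := by
  classical
  obtain ⟨T, d, hd, hds, hT⟩ := hn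
  haveI : IsLocallyNoetherian T.left := hT
  haveI := compactSpace_points_of_isQuasiCompactSp hc
  have ho := isOpenMap_ofPt_of_repWith etale_le_universallyOpen hd
  obtain ⟨s, hs⟩ := isCompact_univ.elim_finite_subcover
    (fun B : T.left.affineOpens => Points.ofPt d '' (B.1 : Set T.left)) (fun B => ho _ B.1.2) fun y _ => by
      obtain ⟨u, rfl⟩ := surjective_ofPt_of_repWith le_rfl hds y
      obtain ⟨B, hB, huB, -⟩ := exists_isAffineOpen_mem_and_subset (TopologicalSpace.Opens.mem_top u)
      exact Set.mem_iUnion.2 ⟨⟨B, hB⟩, u, huB, rfl⟩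
  let K : T.left.Opens := ⨆ B ∈ s, (B : T.left.affineOpens).1
  haveI : CompactSpace K.toScheme := isCompact_iff_compactSpace.1 (by
    simpa [K] using s.finite_toSet.isCompact_biUnion fun B _ => B.2.isCompact)
  haveI : IsLocallyNoetherian K.toScheme := isLocallyNoetherian_of_isOpenImmersion K.ι
  haveI : IsNoetherian K.toScheme := {}
  refine noetherianSpace_of_surjective (fun k : K.toScheme => Points.ofPt d (K.ι k))
    ((Points.continuous_ofPt d).comp K.ι.continuous) fun y => ?_
  obtain ⟨B, hB, u, hu, rfl⟩ := Set.mem_iUnion₂.1 (hs (Set.mem_univ y))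
  exact ⟨⟨u, le_biSup (fun B : T.left.affineOpens => B.1) hB hu⟩, rfl⟩

open AffineSpace in
theorem exists_dense_open_immersion [QuasiSeparatedSpace S] {Y X : Space S} (f : Y ⟶ X)
    (hf : IsFinitePresentationMor f.hom) (hXqc : IsQuasiCompactSp X.obj) (hXqs : IsQuasiSeparatedSp X.obj)
    (hXln : IsLocNoethSp X.obj) :
    ∃ (V : Space S) (j : V ⟶ Y) (n : ℕ)
      (i : V.obj ⟶ X.obj ⨯ (yon S).obj (Over.mk (𝔸(ULift.{u} (Fin n); S) ↘ S))),
      RepWith @IsOpenImmersion j.hom ∧ Dense (Set.range (Points.map j.hom)) ∧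
      i ≫ prod.fst = j.hom ≫ f.hom ∧ RepWith @IsImmersion i := by
  classical
  obtain ⟨hYqc, hYqs, hYln⟩ := noetherian_of_finitePresentation Y.property X.property hf ⟨hXqc, hXqs, hXln⟩
  haveI := noetherianSpace_points hYqc hYln
  have hdec := isDecent_of_isQuasiSeparatedSp Y.property hYqs
  haveI := quasiSober_of_isDecent Y.property hdec
  obtain ⟨Y', jY, hjY, hY', hdense⟩ := exists_dense_open_subscheme Y hdec
  obtain ⟨T, ⟨e⟩⟩ := isRepresentable_iff_exists_iso.1 hY'
  let q : (yon S).obj T ⟶ Y.obj := e.hom ≫ jY.hom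
  have hq : RepWith @IsOpenImmersion q := repWith_comp (repWith_of_isIso _) hjY
  have hqo := isOpenMap_ofPt_of_repWith (fun _ _ k (_ : IsOpenImmersion k) => inferInstance) hq
  haveI : Finite (irreducibleComponents (Points Y.obj)) :=
    NoetherianSpace.finite_irreducibleComponents.to_subtype
  have hC : ∀ C : irreducibleComponents (Points Y.obj), ∃ (B : T.left.Opens) (Z : Over S) (g : (yon S).obj Z ⟶ X.obj),
      IsAffineOpen B ∧ RepWith @IsImmersion g ∧
      (∀ t ∈ B, Points.map f.hom (Points.ofPt q t) ∈ Set.range (Points.map g)) ∧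
      (C.1 ⊆ closure (Points.ofPt q '' (B : Set T.left))) ∧
      ∀ C' : irreducibleComponents (Points Y.obj), C' ≠ C → ∀ t ∈ B, Points.ofPt q t ∉ C'.1 := by
    intro C
    have hCi : IsIrreducible C.1 := C.2.prop
    have hCc : IsClosed C.1 := isClosed_of_mem_irreducibleComponents _ C.2
    let η := hCi.genericPoint
    have hη : IsGenericPoint η C.1 := by
      have := hCi.isGenericPoint_genericPoint_closure
      rwa [hCc.closure_eq] at this
    obtain ⟨Z, g, hg, hηg⟩ := exists_immersed_scheme X.property hXqs (Points.map f.hom η)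
    have hlc := (isEmbedding_of_immersion X.property g hg).2
    let O : Set (Points Y.obj) := (⋃ C' ∈ {C' : irreducibleComponents (Points Y.obj) | C' ≠ C}, C'.1)ᶜ ∩
      Points.map f.hom ⁻¹' coborder (Set.range (Points.map g))
    have hO : IsOpen O := by
      refine IsOpen.inter ?_ ((isLocallyClosed_iff_isOpen_coborder.1 hlc).preimage (Points.continuous_map _))
      exact (Set.Finite.isClosed_biUnion (Set.toFinite _) fun C' _ => isClosed_of_mem_irreducibleComponents _ C'.2).isOpen_compl
    have hηO : η ∈ O := by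
      refine ⟨?_, subset_coborder hηg⟩
      simp only [Set.mem_compl_iff, Set.mem_iUnion, not_exists]
      intro C' hne hmem
      have : C.1 ⊆ C'.1 := hη.def.symm.le.trans
        ((isClosed_of_mem_irreducibleComponents _ C'.2).closure_subset_iff.2 (Set.singleton_subset_iff.2 hmem))
      exact hne (Subtype.ext (le_antisymm (C.2.le_of_ge C'.2.prop this) this))
    obtain ⟨y, hy, hyO⟩ := hdense.exists_mem_open hO ⟨η, hηO⟩
    obtain ⟨t, rfl⟩ : y ∈ Set.range (Points.ofPt q) := by
      obtain ⟨w, rfl⟩ := hy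
      rw [← range_map_yon]
      exact ⟨Points.map e.inv w, by simp only [q, ← Points.map_comp, Iso.inv_hom_id_assoc]⟩
    obtain ⟨B, hB, htB, hBO⟩ := exists_isAffineOpen_mem_and_subset (X := T.left)
      (U := ⟨Points.ofPt q ⁻¹' O, hO.preimage (Points.continuous_ofPt q)⟩) hyO
    have hOC : ∀ x ∈ O, x ∈ C.1 := fun x hx => by
      let C' : irreducibleComponents (Points Y.obj) :=
        ⟨irreducibleComponent x, irreducibleComponent_mem_irreducibleComponents x⟩
      by_cases h : C' = C
      · exact h ▸ mem_irreducibleComponent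
      · exact (hx.1 (Set.mem_biUnion (show C' ∈ {C' | C' ≠ C} from h) mem_irreducibleComponent)).elim
    refine ⟨B, Z, g, hB, hg, fun t ht => ?_, ?_, fun C' hne t ht hmem => (hBO ht).1 (Set.mem_biUnion hne hmem)⟩
    · have h1 : Points.map f.hom (Points.ofPt q t) ∈ closure (Set.range (Points.map g)) :=
        closure_mono (Set.singleton_subset_iff.2 hηg)
          (specializes_iff_mem_closure.1 ((hη.specializes (hOC _ (hBO ht))).map (Points.continuous_map _)))
      rw [← closure_inter_coborder (s := Set.range (Points.map g))]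
      exact ⟨h1, (hBO ht).2⟩
    · have hηB : η ∈ Points.ofPt q '' (B : Set T.left) :=
        (hη.specializes (hOC _ (hBO htB))).mem_open (hqo _ B.2) ⟨t, htB, rfl⟩
      rw [← hη.def]
      exact closure_mono (Set.singleton_subset_iff.2 hηB)
  choose B Z g hB hg hBg hBC hBd using hC
  have hdisj : Pairwise (Function.onFun Disjoint B) := fun C C' hne => by
    refine disjoint_iff_inf_le.2 fun t ht => ?_
    obtain ⟨C₀, hC₀, hmem⟩ : ∃ C₀ ∈ irreducibleComponents (Points Y.obj), Points.ofPt q t ∈ C₀ :=
      ⟨_, irreducibleComponent_mem_irreducibleComponents _, mem_irreducibleComponent⟩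
    by_cases h : (⟨C₀, hC₀⟩ : irreducibleComponents (Points Y.obj)) = C
    · exact (hBd C' _ (h ▸ hne) t ht.2 hmem).elim
    · exact (hBd C _ h t ht.1 hmem).elim
  have hA : IsAffineOpen (⨆ C, B C) := IsAffineOpen.iSup_of_disjoint hB hdisj
  let U : Over S := Over.mk ((⨆ C, B C).ι ≫ T.hom)
  let ι₀ : U ⟶ T := Over.homMk (⨆ C, B C).ι rfl
  let jU : (yon S).obj U ⟶ Y.obj := (yon S).map ι₀ ≫ q
  have hjU : RepWith @IsOpenImmersion jU := repWith_comp ((repWith_yon_map_iff _ _).2
    (show IsOpenImmersion ι₀.left from inferInstanceAs (IsOpenImmersion (Scheme.Opens.ι _)))) hq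
  let fU := jU ≫ f.hom
  have hfU : LocP @LocallyOfFiniteType fU := locP_etale_precomp
    (repWith_le (fun _ _ k (_ : IsOpenImmersion k) => inferInstanceAs (Etale k)) hjU)
    (locP_mono (show (@LocallyOfFinitePresentation : MorphismProperty Scheme.{u}) ≤ @LocallyOfFiniteType from
      fun _ _ k h => by haveI := h; infer_instance) hf.1)
  let en := (Finite.exists_equiv_fin (irreducibleComponents (Points Y.obj))).choose_spec.some
  let idx : ULift.{u} (Fin (Finite.exists_equiv_fin (irreducibleComponents (Points Y.obj))).choose) →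
      irreducibleComponents (Points Y.obj) := fun k => en.symm k.down
  let V : ULift.{u} (Fin (Finite.exists_equiv_fin (irreducibleComponents (Points Y.obj))).choose) → Over S :=
    fun k => Over.mk ((B (idx k)).ι ≫ T.hom)
  let v : ∀ k, V k ⟶ U := fun k => Over.homMk (T.left.homOfLE (le_iSup B (idx k)))
    (Scheme.homOfLE_ι_assoc _ _ _)
  have himm : GraphImm fU := graphImm_of_openCover fU V v
    (fun k => inferInstanceAs (IsOpenImmersion (T.left.homOfLE (le_iSup B (idx k)))))
    (fun t => by
      obtain ⟨C, hC⟩ := TopologicalSpace.Opens.mem_iSup.1 t.2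
      obtain ⟨k, rfl⟩ : ∃ k, idx k = C := ⟨⟨en C⟩, en.symm_apply_apply C⟩
      exact ⟨k, ⟨t.1, hC⟩, Subtype.ext (congr($(T.left.homOfLE_ι (le_iSup B (idx k))) ⟨t.1, hC⟩))⟩)
    fun k => graphImm_of_factor X.property _ (hg (idx k)) fun t => by
      rw [ofPt_map, show fU = (yon S).map ι₀ ≫ q ≫ f.hom from Category.assoc _ _ _, ofPt_map, ← Points.map_ofPt]
      refine hBg (idx k) _ ?_
      change (T.left.homOfLE (le_iSup B (idx k)) ≫ Scheme.Opens.ι _) t ∈ B (idx k)
      rw [Scheme.homOfLE_ι]
      exact t.2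
  obtain ⟨n, i, hi₁, hi₂⟩ := exists_immersion_affineSpace_of_graphImm X hXqs U hA fU himm hfU
  refine ⟨⟨(yon S).obj U, IsAlgSpace.yon_obj U⟩, ObjectProperty.homMk jU, n, i, hjU, ?_, hi₁, hi₂⟩
  intro y
  let C : irreducibleComponents (Points Y.obj) :=
    ⟨irreducibleComponent y, irreducibleComponent_mem_irreducibleComponents y⟩
  refine closure_mono ?_ (hBC C mem_irreducibleComponent)
  rintro _ ⟨t, ht, rfl⟩
  change _ ∈ Set.range (Points.map jU)
  rw [range_map_yon]
  exact ⟨⟨t, TopologicalSpace.Opens.mem_iSup.2 ⟨C, ht⟩⟩, by simp only [jU, ofPt_map]; rfl⟩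

end Groth.Agent.H12AlgSp.AffImm
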