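import Groth.Agent.H12AlgSp.AffImm.Scheme
import Groth.Agent.H12AlgSp.AffImm.Criterion
import Groth.Agent.H12AlgSp.Immersion
import Groth.Agent.H12AlgSp.OpenSub
import Groth.Agent.H13AlgSp.InductionPrinciple
import Groth.Agent.H13AlgSp.ProdConn
import Groth.Agent.H12AlgSp.ShriekSpace

/-!
Affine schemes locally of finite type over a locally separated space immerse into affine space over it.
-/

set_option autoImplicit false
set_option backward.isDefEq.respectTransparency false
set_option linter.style.haveILetI false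

universe u

open CategoryTheory CategoryTheory.Limits AlgebraicGeometry Opposite
open AlgSp Groth.Agent.H13AlgSp

namespace Groth.Agent.H12AlgSp.AffImm

variable {S : Scheme.{u}}

theorem isPullback_of_comp_mono {Z A B C D : Sp S} {a : Z ⟶ A} {b : Z ⟶ B} {f : A ⟶ C} {g : B ⟶ C} {ι : C ⟶ D}
    [Mono ι] {f' : A ⟶ D} {g' : B ⟶ D} (hf : f ≫ ι = f') (hg : g ≫ ι = g') (sq : IsPullback a b f' g') :
    IsPullback a b f g := by
  subst hf hg
  have w : a ≫ f = b ≫ g := (cancel_mono ι).1 (by rw [Category.assoc, Category.assoc, sq.w])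
  exact ⟨⟨w⟩, ⟨PullbackCone.IsLimit.mk w (fun s => sq.lift s.fst s.snd (by rw [reassoc_of% s.condition]))
    (fun s => sq.lift_fst _ _ _) (fun s => sq.lift_snd _ _ _)
    fun s m h₁ h₂ => sq.hom_ext (by rw [h₁, sq.lift_fst]) (by rw [h₂, sq.lift_snd])⟩⟩

theorem isPullback_diag {X : Sp S} {U W E : Over S} {f : (yon S).obj U ⟶ X} {a : (yon S).obj W ⟶ X}
    {eU : E ⟶ U} {eW : E ⟶ W} (sq : IsPullback ((yon S).map eU) ((yon S).map eW) f a) :
    IsPullback ((yon S).map eU ≫ f) ((yon S).map (prod.lift eU eW)) (Limits.diag X)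
      (prod.lift ((yon S).map (prod.fst : U ⨯ W ⟶ U) ≫ f) ((yon S).map (prod.snd : U ⨯ W ⟶ W) ≫ a)) := by
  have e₁ : (yon S).map (prod.lift eU eW) ≫ (yon S).map prod.fst = (yon S).map eU := by
    rw [← Functor.map_comp, prod.lift_fst]
  have e₂ : (yon S).map (prod.lift eU eW) ≫ (yon S).map prod.snd = (yon S).map eW := by
    rw [← Functor.map_comp, prod.lift_snd]
  refine ⟨⟨?_⟩, ⟨PullbackCone.IsLimit.mk _ (fun c => sq.lift (c.snd ≫ (yon S).map prod.fst)
    (c.snd ≫ (yon S).map prod.snd) ?_) (fun c => ?_) (fun c => ?_) fun c m h1 h2 => ?_⟩⟩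
  · apply Limits.prod.hom_ext
    · simp [reassoc_of% e₁]
    · simp [reassoc_of% e₂, sq.w]
  · have h₁ := c.condition =≫ prod.fst
    have h₂ := c.condition =≫ prod.snd
    simp at h₁ h₂
    rw [Category.assoc, Category.assoc, ← h₁, ← h₂]
  · have h₁ := c.condition =≫ prod.fst
    simp at h₁
    rw [reassoc_of% sq.lift_fst, h₁, Category.assoc]
  · have hU : Mono ((yon S).map (prod.lift eU eW) : (yon S).obj E ⟶ _) := ⟨fun x y h => sq.hom_ext
      (by rw [← e₁, reassoc_of% h]) (by rw [← e₂, reassoc_of% h])⟩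
    haveI : IsIso (prodComparison (yon S) U W) := inferInstance
    rw [← cancel_mono (prodComparison (yon S) U W)]
    apply Limits.prod.hom_ext
    · simp only [Category.assoc, prodComparison_fst, e₁, sq.lift_fst]
    · simp only [Category.assoc, prodComparison_snd, e₂, sq.lift_snd]
  · refine sq.hom_ext ?_ ?_
    · rw [sq.lift_fst, ← e₁, reassoc_of% h2]
    · rw [sq.lift_snd, ← e₂, reassoc_of% h2]

theorem exists_compact_open_superset {X : Sp S} (hX : IsAlgSpace X) {K : Set (Points X)} (hK : IsCompact K) :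
    ∃ V : Set (Points X), IsOpen V ∧ IsCompact V ∧ K ⊆ V := by
  classical
  obtain ⟨U, p, hp, hps⟩ := hX.atlas
  have ho := isOpenMap_ofPt_of_repWith etale_le_universallyOpen hp
  obtain ⟨t, ht⟩ := hK.elim_finite_subcover (fun i : U.left.affineOpens => Points.ofPt p '' (i.1 : Set U.left))
    (fun i => ho _ i.1.2) fun x _ => by
      obtain ⟨u, rfl⟩ := surjective_ofPt_of_repWith le_rfl hps x
      obtain ⟨B, hB, huB, -⟩ := exists_isAffineOpen_mem_and_subset (TopologicalSpace.Opens.mem_top u)
      exact Set.mem_iUnion.2 ⟨⟨B, hB⟩, u, huB, rfl⟩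
  exact ⟨_, isOpen_biUnion fun i _ => ho _ i.1.2,
    t.finite_toSet.isCompact_biUnion fun i _ => i.2.isCompact.image (Points.continuous_ofPt p), ht⟩

open AffineSpace in
theorem exists_immersion_affineSpace_of_graphImm [QuasiSeparatedSpace S] (X : Space S) (hqs : IsQuasiSeparatedSp X.obj)
    (U : Over S) (hU : IsAffine U.left) (f : (yon S).obj U ⟶ X.obj) (himm' : GraphImm f)
    (hf : LocP @LocallyOfFiniteType f) :
    ∃ (n : ℕ) (i : (yon S).obj U ⟶ X.obj ⨯ (yon S).obj (Over.mk (𝔸(ULift.{u} (Fin n); S) ↘ S))),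
      i ≫ prod.fst = f ∧ RepWith @IsImmersion i := by
  classical
  haveI := hU
  obtain ⟨V, hV, hVc, hfV⟩ := exists_compact_open_superset X.property
    (isCompact_range (Points.continuous_ofPt f))
  obtain ⟨W, a, hW, ha, har⟩ := exists_affine_chart X.property hV hVc
  haveI : IsAffine W.left := hW
  let X' := openSub V
  have hX' : IsAlgSpace X' := isAlgSpace_openSub X.property hV
  obtain ⟨f', hf'⟩ := exists_openSub_lift (W := V) f fun t => hfV ⟨t, rfl⟩
  obtain ⟨a', ha'⟩ := exists_openSub_lift (W := V) a fun t => har.le ⟨t, rfl⟩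
  have ha'e : RepWith @Etale a' := repWith_openImmersion_of_fac a' (openSubι V) ha' ha
  have ha's : RepWith @Surjective a' := repWith_surjective_of_map ha'e.1 fun x => by
    obtain ⟨w, hw⟩ := har.ge (show Points.map (openSubι V) x ∈ V from (range_openSubι X.property V).le ⟨x, rfl⟩)
    refine ⟨Points.ofScheme W w, injective_map_of_mono (openSubι V) ?_⟩
    rw [← Points.map_comp, ha', ← Points.ofPt_eq_map_ofScheme, hw]
  obtain ⟨E, eW, eU', sqE'⟩ := (X.property.representable_from_yon f) a
  obtain ⟨eU, rfl⟩ := (yon S).map_surjective eU'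
  have sqE : IsPullback ((yon S).map eU) ((yon S).map eW) f a := sqE'
  haveI : Etale eU.left := ha.property f _ _ sqE.flip
  haveI : LocallyOfFiniteType eW.left := hf ((yon S).map eU) a eW
    ((repWith_yon_map_iff _ _).2 inferInstance) ha sqE.w
  have himm : IsImmersion (prod.lift eU eW).left := himm' W E a eU eW ha sqE inferInstance
  have hqc : QuasiCompact (prod.lift eU eW).left := hqs.property _ _ _ (isPullback_diag sqE)
  haveI : QuasiCompact W.hom := QuasiCompact.of_comp W.hom (terminal.from S)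
  haveI : CompactSpace ↥(U ⨯ W).left := by
    haveI : CompactSpace ↥(pullback U.hom W.hom) :=
      QuasiCompact.compactSpace_of_compactSpace (pullback.fst U.hom W.hom)
    exact (Scheme.homeoOfIso (Over.prodLeftIsoPullback U W)).symm.compactSpace
  haveI : CompactSpace E.left := QuasiCompact.compactSpace_of_compactSpace (prod.lift eU eW).left
  have hψ : IsImmersion (pullback.lift eU.left eW.left (terminal.hom_ext _ _) :
      E.left ⟶ pullback (terminal.from U.left) (terminal.from W.left)) := by
    have e : pullback.lift eU.left eW.left (terminal.hom_ext _ _) =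
        (prod.lift eU eW).left ≫ (Over.prodLeftIsoPullback U W).hom ≫ pullback.mapDesc U.hom W.hom (terminal.from S) ≫
          (pullback.congrHom (f₁ := U.hom ≫ terminal.from S) (f₂ := terminal.from U.left) (g₁ := W.hom ≫ terminal.from S)
            (g₂ := terminal.from W.left) (terminal.hom_ext _ _) (terminal.hom_ext _ _)).hom := by
      apply pullback.hom_ext <;>
        simp only [pullback.lift_fst, pullback.lift_snd, Category.assoc, pullback.congrHom_hom, pullback.lift_fst_assoc,
          pullback.lift_snd_assoc, Category.comp_id, Category.id_comp, Over.prodLeftIsoPullback_hom_fst,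
          Over.prodLeftIsoPullback_hom_snd, ← Over.comp_left, prod.lift_fst, prod.lift_snd]
    rw [e]
    infer_instance
  obtain ⟨σ, hσ⟩ := exists_finset_immersion eU.left eW.left hψ
  let v : ULift.{u} (Fin σ.card) → Γ(U.left, ⊤) := fun k => (σ.equivFin.symm k.down).1
  let A : Over S := Over.mk (𝔸(ULift.{u} (Fin σ.card); S) ↘ S)
  let t : U ⟶ A := Over.homMk (homOfVector U.hom v) (homOfVector_over _ _)
  have himm2 := hσ (ULift.{u} (Fin σ.card)) v fun x hx =>
    ⟨⟨σ.equivFin ⟨x, hx⟩⟩, by simp [v]⟩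
  let e₂ : E ⟶ W ⨯ A := prod.lift eW (eU ≫ t)
  have he₂ : IsImmersion e₂.left := by
    let ν : (W ⨯ A).left ⟶ 𝔸(ULift.{u} (Fin σ.card); W.left) :=
      homOfVector (prod.fst : W ⨯ A ⟶ W).left fun k => (prod.snd : W ⨯ A ⟶ A).left.appTop (coord S k)
    have e : e₂.left ≫ ν = homOfVector eW.left (fun k => eU.left.appTop (v k)) := by
      refine AffineSpace.hom_ext ?_ fun k => ?_
      · simp [ν, e₂, ← Over.comp_left]
      · simp only [ν, Scheme.Hom.comp_appTop, CommRingCat.comp_apply, homOfVector_appTop_coord]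
        rw [← CommRingCat.comp_apply, ← Scheme.Hom.comp_appTop, ← Over.comp_left, prod.lift_snd, Over.comp_left,
          Scheme.Hom.comp_appTop, CommRingCat.comp_apply]
        exact congrArg eU.left.appTop.hom (homOfVector_appTop_coord _ _ k)
    rw [← e] at himm2
    haveI := himm2
    exact IsImmersion.of_comp e₂.left ν
  let i' : (yon S).obj U ⟶ X' ⨯ (yon S).obj A := prod.lift f' ((yon S).map t)
  let π : (yon S).obj (W ⨯ A) ⟶ X' ⨯ (yon S).obj A :=
    (PreservesLimitPair.iso (yon S) W A).hom ≫ prod.map a' (𝟙 _)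
  have hπ₁ : π ≫ prod.fst = (yon S).map prod.fst ≫ a' := by simp [π]
  have hπ₂ : π ≫ prod.snd = (yon S).map prod.snd := by simp [π]
  have hπ : RepWith @Etale π := repWith_comp (repWith_of_isIso _)
    (repWith_of_isPullback (isPullback_prod_map_fst' (Y := (yon S).obj A) a').flip ha'e)
  have hπs : RepWith @Surjective π := repWith_comp (repWith_of_isIso _)
    (repWith_of_isPullback (isPullback_prod_map_fst' (Y := (yon S).obj A) a').flip ha's)
  have sqX' := isPullback_of_comp_mono hf' ha' sqE
  have he₁ : (yon S).map e₂ ≫ (yon S).map prod.fst = (yon S).map eW := by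
    rw [← Functor.map_comp, prod.lift_fst]
  have he₂' : (yon S).map e₂ ≫ (yon S).map prod.snd = (yon S).map eU ≫ (yon S).map t := by
    rw [← Functor.map_comp, ← Functor.map_comp, prod.lift_snd]
  have sqI : IsPullback ((yon S).map eU) ((yon S).map e₂) i' π := by
    refine ⟨⟨?_⟩, ⟨PullbackCone.IsLimit.mk _ (fun c => sqX'.lift c.fst (c.snd ≫ (yon S).map prod.fst) ?_)
      (fun c => sqX'.lift_fst _ _ _) (fun c => ?_) fun c m h1 h2 => ?_⟩⟩
    · apply Limits.prod.hom_ext
      · simp only [Category.assoc, i', prod.lift_fst, hπ₁, reassoc_of% he₁, sqX'.w]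
      · simp only [Category.assoc, i', prod.lift_snd, hπ₂, he₂']
    · have h₁ := c.condition =≫ prod.fst
      simp only [Category.assoc, i', prod.lift_fst, hπ₁] at h₁
      rw [Category.assoc, h₁]
    · rw [← cancel_mono (PreservesLimitPair.iso (yon S) W A).hom]
      have h₂ := c.condition =≫ prod.snd
      simp only [Category.assoc, i', prod.lift_snd, hπ₂] at h₂
      apply Limits.prod.hom_ext
      · simp only [Category.assoc, PreservesLimitPair.iso_hom, prodComparison_fst, he₁, sqX'.lift_snd]
      · simp only [Category.assoc, PreservesLimitPair.iso_hom, prodComparison_snd, he₂', reassoc_of% sqX'.lift_fst, h₂]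
    · refine sqX'.hom_ext ?_ ?_
      · rw [h1, sqX'.lift_fst]
      · rw [sqX'.lift_snd, ← he₁, reassoc_of% h2]
  have hXA : IsAlgSpace (X' ⨯ (yon S).obj A) := Shriek.isAlgSpace_prod hX' (IsAlgSpace.yon_obj A)
  have hi' : RepWith @IsImmersion i' := repWith_isImmersion_of_etale_cover (IsAlgSpace.yon_obj U) hXA hπ hπs sqI
    ((repWith_yon_map_iff _ _).2 he₂)
  refine ⟨σ.card, i' ≫ prod.map (openSubι V) (𝟙 _), by simp [i', hf'], repWith_comp hi' ?_⟩
  exact repWith_le (fun _ _ i (_ : IsOpenImmersion i) => inferInstanceAs (IsImmersion i))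
    (repWith_of_isPullback (isPullback_prod_map_fst' (Y := (yon S).obj A) (openSubι V)).flip (repWith_openSubι hV))

open AffineSpace in
theorem exists_immersion_affineSpace [QuasiSeparatedSpace S] (X : Space S) (hqs : IsQuasiSeparatedSp X.obj)
    (hls : IsLocallySeparatedSp X.obj) (U : Over S) (hU : IsAffine U.left) (f : (yon S).obj U ⟶ X.obj)
    (hf : LocP @LocallyOfFiniteType f) :
    ∃ (n : ℕ) (i : (yon S).obj U ⟶ X.obj ⨯ (yon S).obj (Over.mk (𝔸(ULift.{u} (Fin n); S) ↘ S))),
      i ≫ prod.fst = f ∧ RepWith @IsImmersion i :=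
  exists_immersion_affineSpace_of_graphImm X hqs U hU f
    (fun _ _ _ _ _ _ sq _ => hls.property _ _ _ (isPullback_diag sq)) hf

end Groth.Agent.H12AlgSp.AffImm
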