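import Groth.Agent.H12AlgSp.SepClosed.Main
import Groth.Agent.H17.QAffImm

/-!
An immersion into the product of two affine schemes becomes an immersion into affine space after choosing
finitely many functions on the first factor.
-/

set_option autoImplicit false
set_option backward.isDefEq.respectTransparency false
set_option linter.style.haveILetI false

universe u

open CategoryTheory CategoryTheory.Limits AlgebraicGeometry Opposite TopologicalSpace Topology

namespace Groth.Agent.H12AlgSp.AffImm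

theorem surjective_appLE_of_closedRange {X Y : Scheme.{u}} (f : X ⟶ Y) [IsImmersion f] {D : Y.Opens}
    (hD : IsAffineOpen D) (hsub : (D : Set Y) ⊆ coborder (Set.range f)) :
    IsAffineOpen (f ⁻¹ᵁ D) ∧ Function.Surjective (f.app D) := by
  have hcl : IsClosedImmersion (f ∣_ D) := by
    have : IsImmersion (f ∣_ D) :=
      MorphismProperty.of_isPullback (P := @IsImmersion) (isPullback_morphismRestrict f D).flip ‹_›
    refine IsClosedImmersion.of_isPreimmersion _ ?_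
    have e : Set.range (f ∣_ D) = Subtype.val ⁻¹' closure (Set.range f) := by
      ext z
      constructor
      · rintro ⟨w, rfl⟩
        exact subset_closure ⟨w.1, (Scheme.Hom.comp_apply _ _ w).symm.trans
          ((congr($(morphismRestrict_ι f D) w)).symm.trans (Scheme.Hom.comp_apply _ _ w))⟩
      · intro hz
        obtain ⟨w, hw⟩ : z.1 ∈ Set.range f := by
          rw [← closure_inter_coborder (s := Set.range f)]
          exact ⟨hz, hsub z.2⟩
        exact ⟨⟨w, show f w ∈ D from hw ▸ z.2⟩, Subtype.ext (((Scheme.Hom.comp_apply _ _ _).symm.trans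
          ((congr($(morphismRestrict_ι f D) _)).trans (Scheme.Hom.comp_apply _ _ _))).trans hw)⟩
    rw [e]
    exact isClosed_closure.preimage continuous_subtype_val
  haveI : IsAffine D.toScheme := hD
  have hA : IsAffine (f ⁻¹ᵁ D).toScheme := isAffine_of_isAffineHom (f ∣_ D)
  refine ⟨hA, ?_⟩
  have h := (f ∣_ D).app_surjective ⊤ (isAffineOpen_top _)
  rw [← Scheme.Hom.resLE_eq_morphismRestrict, Scheme.Hom.resLE_app_top] at h
  rw [← Scheme.Hom.appLE_eq_app]
  intro c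
  obtain ⟨b, hb⟩ := h ((f ⁻¹ᵁ D).topIso.inv c)
  exact ⟨D.topIso.hom b, (ConcreteCategory.bijective_of_isIso (f ⁻¹ᵁ D).topIso.inv).1 hb⟩

open AffineSpace in
/-- An immersion into a product of affine schemes gives an immersion into affine space over the second factor. -/
theorem exists_finset_immersion {X U W : Scheme.{u}} [IsAffine U] [IsAffine W] [CompactSpace X] (p : X ⟶ U)
    (w : X ⟶ W) [LocallyOfFiniteType w]
    (h : IsImmersion (pullback.lift p w (terminal.hom_ext _ _) : X ⟶ pullback (terminal.from U) (terminal.from W))) :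
    ∃ σ : Finset Γ(U, ⊤), ∀ (n : Type u) (v : n → Γ(U, ⊤)), (σ : Set Γ(U, ⊤)) ⊆ Set.range v →
      IsImmersion (homOfVector w (fun i => p.appTop (v i)) : X ⟶ 𝔸(n; W)) := by
  classical
  let ψ : X ⟶ pullback (terminal.from U) (terminal.from W) := pullback.lift p w (terminal.hom_ext _ _)
  haveI : IsImmersion ψ := h
  have sq := (IsPullback.of_hasPullback (terminal.from U) (terminal.from W)).flip
  let Q := pullback (terminal.from U) (terminal.from W)
  haveI : IsAffine Q := inferInstance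
  let O : Q.Opens := ⟨coborder (Set.range ψ), isLocallyClosed_iff_isOpen_coborder.1 ψ.isLocallyClosed_range⟩
  have hch : ∀ x : X, ∃ g : Γ(Q, ⊤), ψ x ∈ Q.basicOpen g ∧ Q.basicOpen g ≤ O := fun x => by
    obtain ⟨g, hg, hxg⟩ := (isAffineOpen_top Q).exists_basicOpen_le (V := O)
      ⟨_, (subset_coborder ⟨x, rfl⟩ : ψ x ∈ O)⟩ trivial
    exact ⟨g, hxg, hg⟩
  choose g hxg hgO using hch
  obtain ⟨T, hT⟩ := isCompact_univ.elim_finite_subcover (fun x => ((ψ ⁻¹ᵁ Q.basicOpen (g x) : X.Opens) : Set X))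
    (fun x => (ψ ⁻¹ᵁ Q.basicOpen (g x)).2) (fun x _ => Set.mem_iUnion.2 ⟨x, hxg x⟩)
  have haff := fun x => surjective_appLE_of_closedRange ψ ((isAffineOpen_top Q).basicOpen (g x)) (hgO x)
  have hle : ∀ x, ψ ⁻¹ᵁ Q.basicOpen (g x) ≤ w ⁻¹ᵁ ⊤ := fun x => le_top
  have hgen : ∀ x, ∃ G : Finset Γ(X, ψ ⁻¹ᵁ Q.basicOpen (g x)),
      letI := (w.appLE ⊤ (ψ ⁻¹ᵁ Q.basicOpen (g x)) (hle x)).hom.toAlgebra
      Algebra.adjoin Γ(W, ⊤) (G : Set Γ(X, ψ ⁻¹ᵁ Q.basicOpen (g x))) = ⊤ := fun x =>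
    (LocallyOfFiniteType.finiteType_appLE w (isAffineOpen_top W) (haff x).1 (hle x)).out
  choose G hG using hgen
  have hnum : ∀ (x : X) (c : Γ(X, ψ ⁻¹ᵁ Q.basicOpen (g x))), ∃ (N : ℕ) (q : Γ(Q, ⊤)),
      c * ψ.app _ (Q.presheaf.map (homOfLE le_top).op (g x)) ^ N = ψ.app _ (Q.presheaf.map (homOfLE le_top).op q) := by
    intro x c
    obtain ⟨c', rfl⟩ := (haff x).2 c
    haveI := (isAffineOpen_top Q).isLocalization_basicOpen (g x)
    obtain ⟨⟨q, _, N, rfl⟩, hq⟩ := IsLocalization.surj (Submonoid.powers (g x)) c'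
    refine ⟨N, q, ?_⟩
    rw [← map_pow, ← map_mul, ← map_pow]
    exact congrArg (ψ.app _).hom hq
  choose N q hq using hnum
  choose τ hτ using fun r : Γ(Q, ⊤) => SepClosed.appTop_snd_mem_closure sq r
  let σ : Finset Γ(U, ⊤) := T.biUnion fun x => τ (g x) ∪ (G x).biUnion fun c => τ (q x c)
  refine ⟨σ, fun n v hv => ?_⟩
  let ρ : Q ⟶ 𝔸(n; W) := homOfVector (pullback.snd (terminal.from U) (terminal.from W)) fun i => (pullback.fst (terminal.from U) (terminal.from W)).appTop (v i)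
  let i : X ⟶ 𝔸(n; W) := homOfVector w (fun i => p.appTop (v i))
  have hψ₁ : ψ ≫ pullback.fst _ _ = p := pullback.lift_fst _ _ _
  have hψ₂ : ψ ≫ pullback.snd _ _ = w := pullback.lift_snd _ _ _
  have hi : ψ ≫ ρ = i := by
    refine AffineSpace.hom_ext ?_ fun k => ?_
    · simp [ρ, i, hψ₂]
    · simp only [ρ, i, Scheme.Hom.comp_appTop, CommRingCat.comp_apply, homOfVector_appTop_coord]
      rw [← CommRingCat.comp_apply, ← Scheme.Hom.comp_appTop, hψ₁]
  have hρ : ∀ r : Γ(Q, ⊤), (↑(τ r) : Set Γ(U, ⊤)) ⊆ σ → r ∈ Set.range ρ.appTop := fun r hr => by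
    have hle : Subring.closure (Set.range (pullback.snd (terminal.from U) (terminal.from W)).appTop.hom ∪
        (pullback.fst (terminal.from U) (terminal.from W)).appTop.hom '' (τ r)) ≤ ρ.appTop.hom.range := by
      rw [Subring.closure_le]
      rintro _ (⟨b, rfl⟩ | ⟨a, ha, rfl⟩)
      · refine ⟨(𝔸(n; W) ↘ W).appTop b, ?_⟩
        rw [← RingHom.comp_apply, ← CommRingCat.hom_comp, ← Scheme.Hom.comp_appTop]
        simp [ρ]
        rfl
      · obtain ⟨k, rfl⟩ := hv (hr ha)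
        exact ⟨coord W k, homOfVector_appTop_coord (pullback.snd (terminal.from U) (terminal.from W)) (fun i => (pullback.fst (terminal.from U) (terminal.from W)).appTop (v i)) k⟩
    exact hle (hτ r)
  have hσg : ∀ x ∈ T, g x ∈ Set.range ρ.appTop := fun x hx => hρ _ fun a ha =>
    Finset.mem_biUnion.2 ⟨x, hx, Finset.mem_union_left _ ha⟩
  choose! g' hg' using hσg
  let D : T → (𝔸(n; W)).Opens := fun x => (𝔸(n; W)).basicOpen (g' x)
  haveI : IsAffine 𝔸(n; W) := .of_isIso (AffineSpace.isoOfIsAffine n W).hom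
  have hD : ∀ x, IsAffineOpen (D x) := fun x => (isAffineOpen_top _).basicOpen _
  have hρD : ∀ x : T, ρ ⁻¹ᵁ D x = Q.basicOpen (g x.1) := fun x => by
    rw [Scheme.preimage_basicOpen_top, hg' x.1 x.2]
  have hpre : ∀ x : T, ψ ⁻¹ᵁ Q.basicOpen (g x.1) = i ⁻¹ᵁ D x := fun x => by
    rw [← hi, Scheme.Hom.comp_preimage, hρD]
  change IsImmersion i
  refine Groth.Agent.H17.QAffImm.isImmersion_of_iSup i D (fun x => ?_) fun y => ?_
  swap
  · obtain ⟨x, hx, hy⟩ := Set.mem_iUnion₂.1 (hT (Set.mem_univ y))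
    exact ⟨⟨x, hx⟩, show y ∈ i ⁻¹ᵁ D ⟨x, hx⟩ from hpre ⟨x, hx⟩ ▸ hy⟩
  refine Groth.Agent.H17.QAffImm.isClosedImmersion_morphismRestrict i (haff x.1).1 (hD x) (hpre x) ?_
  set φ := (i.appLE (D x) (ψ ⁻¹ᵁ Q.basicOpen (g x.1)) (hpre x).le).hom with hφ
  have hres : ∀ r : Γ(𝔸(n; W), ⊤), φ ((𝔸(n; W)).presheaf.map (homOfLE le_top).op r) =
      ψ.app _ (Q.presheaf.map (homOfLE le_top).op (ρ.appTop r)) := fun r => by
    have e : (𝔸(n; W)).presheaf.map (homOfLE le_top).op ≫ i.appLE (D x) _ (hpre x).le =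
        ρ.appTop ≫ Q.presheaf.map (homOfLE le_top).op ≫ ψ.app (Q.basicOpen (g x.1)) := by
      rw [Scheme.Hom.map_appLE, ← Scheme.Hom.appLE_eq_app ψ, Scheme.Hom.map_appLE]
      rw [show ρ.appTop = ρ.appLE ⊤ ⊤ le_top from (Scheme.Hom.appLE_eq_app ρ).symm]
      rw [Scheme.Hom.appLE_comp_appLE]
      simp only [hi]
    exact congr($e r)
  have hbase : ∀ b, φ ((𝔸(n; W) ↘ W).appLE ⊤ (D x) le_top b) = w.appLE ⊤ (ψ ⁻¹ᵁ Q.basicOpen (g x.1)) (hle x.1) b :=
      fun b => by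
    have e : (𝔸(n; W) ↘ W).appLE ⊤ (D x) le_top ≫ i.appLE (D x) _ (hpre x).le =
        w.appLE ⊤ (ψ ⁻¹ᵁ Q.basicOpen (g x.1)) (hle x.1) := by
      rw [Scheme.Hom.appLE_comp_appLE]; simp only [i, homOfVector_over]
    exact congr($e b)
  have hunit : IsUnit ((𝔸(n; W)).presheaf.map (homOfLE (le_top : D x ≤ ⊤)).op (g' x.1)) :=
    RingedSpace.isUnit_res_basicOpen (𝔸(n; W)).toRingedSpace (g' x.1)
  obtain ⟨z, hz⟩ := hunit
  intro c
  letI := (w.appLE ⊤ (ψ ⁻¹ᵁ Q.basicOpen (g x.1)) (hle x.1)).hom.toAlgebra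
  show c ∈ φ.range
  have hc : c ∈ Algebra.adjoin Γ(W, ⊤) (G x.1 : Set Γ(X, ψ ⁻¹ᵁ Q.basicOpen (g x.1))) :=
    (hG x.1).symm ▸ Algebra.mem_top
  induction hc using Algebra.adjoin_induction with
  | mem c hc =>
    obtain ⟨q', hq'⟩ := hρ (q x.1 c) fun a ha =>
      Finset.mem_biUnion.2 ⟨x.1, x.2, Finset.mem_union_right _ (Finset.mem_biUnion.2 ⟨c, hc, ha⟩)⟩
    refine ⟨(𝔸(n; W)).presheaf.map (homOfLE le_top).op q' * (↑z⁻¹ : Γ(𝔸(n; W), D x)) ^ N x.1 c, ?_⟩
    have h1 : φ z = ψ.app _ (Q.presheaf.map (homOfLE le_top).op (g x.1)) := by rw [hz, hres, hg' x.1 x.2]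
    rw [map_mul, map_pow, hres, hq', ← hq, ← h1, mul_assoc, ← mul_pow, ← map_mul, Units.mul_inv, map_one, one_pow,
      mul_one]
  | algebraMap b => exact ⟨_, hbase b⟩
  | add b₁ b₂ _ _ h₁ h₂ => exact Subring.add_mem _ h₁ h₂
  | mul b₁ b₂ _ _ h₁ h₂ => exact Subring.mul_mem _ h₁ h₂

end Groth.Agent.H12AlgSp.AffImm
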